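import Mathlib.RingTheory.Ideal.Pure
import Mathlib.RingTheory.Flat.LocallyFree
import Mathlib.RingTheory.Localization.Finiteness
import Mathlib.RingTheory.Spectrum.Prime.Topology
import Mathlib.RingTheory.Finiteness.Projective

/-!
# Pure ideals and finite flat modules
-/

universe u

open PrimeSpectrum Topology

namespace Groth.Agent.CAlgPureIdeal

variable {R : Type u} [CommRing R]

theorem stableUnderGeneralization_of_pure (I : Ideal R) [I.Pure] :
    StableUnderGeneralization (zeroLocus (I : Set R)) := by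
  intro p q hqp hp
  rw [mem_zeroLocus] at hp ⊢
  intro x hx
  obtain ⟨y, hy, hxy⟩ := Ideal.exists_eq_mul_of_pure hx
  have hle : q.asIdeal ≤ p.asIdeal := (le_iff_specializes q p).2 hqp
  have h0 : x * (1 - y) = 0 := by rw [mul_sub, mul_one, ← hxy, sub_self]
  refine (q.2.mem_or_mem (h0 ▸ q.asIdeal.zero_mem : x * (1 - y) ∈ q.asIdeal)).resolve_right fun h => ?_
  exact p.2.ne_top ((Ideal.eq_top_iff_one _).2 (by simpa using p.asIdeal.add_mem (hle h) (hp hy)))

theorem exists_pure (Z : Set (PrimeSpectrum R)) (hZ : IsClosed Z) (hgen : StableUnderGeneralization Z) :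
    ∃ I : Ideal R, I.Pure ∧ zeroLocus (I : Set R) = Z := by
  obtain ⟨J, hJ⟩ := (isClosed_iff_zeroLocus_ideal Z).1 hZ
  let I : Ideal R :=
    { carrier := {x | ∃ j ∈ J, j * x = x}
      zero_mem' := ⟨0, J.zero_mem, mul_zero 0⟩
      add_mem' := by
        rintro x y ⟨i, hi, hx⟩ ⟨j, hj, hy⟩
        exact ⟨i + j - i * j, J.sub_mem (J.add_mem hi hj) (J.mul_mem_left i hj), by linear_combination (1 - j) * hx + (1 - i) * hy⟩
      smul_mem' := by
        rintro r x ⟨j, hj, hx⟩
        exact ⟨j, hj, by simp only [smul_eq_mul]; linear_combination r * hx⟩ }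
  have hle : I ≤ J := fun x ⟨j, hj, hx⟩ => hx ▸ J.mul_mem_right x hj
  have hZI : zeroLocus (I : Set R) = Z := by
    refine Set.Subset.antisymm (fun p hp => ?_) (hJ ▸ zeroLocus_anti_mono hle)
    by_contra hpZ
    let S : Submonoid R :=
      { carrier := {s | ∃ j ∈ J, ∃ t ∉ p.asIdeal, s = (1 - j) * t}
        one_mem' := ⟨0, J.zero_mem, 1, (fun h => p.2.ne_top ((Ideal.eq_top_iff_one _).2 h)), by simp⟩
        mul_mem' := by
          rintro _ _ ⟨i, hi, t, ht, rfl⟩ ⟨j, hj, t', ht', rfl⟩
          exact ⟨i + j - i * j, J.sub_mem (J.add_mem hi hj) (J.mul_mem_left i hj), t * t',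
            fun h => (p.2.mem_or_mem h).elim ht ht', by ring⟩ }
    by_cases h0 : (0 : R) ∈ S
    · obtain ⟨j, hj, t, ht, h⟩ := h0
      exact ht (hp ⟨j, hj, by linear_combination h⟩)
    · obtain ⟨q, hq, -, hqS⟩ := Ideal.exists_le_prime_disjoint (⊥ : Ideal R) S (by
        rw [Set.disjoint_left]
        intro x hx hxS
        rw [show x = 0 from hx] at hxS
        exact h0 hxS)
      have hqp : q ≤ p.asIdeal := fun x hx => by
        by_contra hxp
        exact Set.disjoint_left.1 hqS hx ⟨0, J.zero_mem, x, hxp, by simp⟩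
      have htop : q ⊔ J ≠ ⊤ := by
        intro h
        obtain ⟨a, ha, j, hj, haj⟩ := Submodule.mem_sup.1 ((Ideal.eq_top_iff_one _).1 h)
        exact Set.disjoint_left.1 hqS ha ⟨j, hj, 1, (fun h => p.2.ne_top ((Ideal.eq_top_iff_one _).2 h)),
          by linear_combination haj⟩
      obtain ⟨m, hm, hmle⟩ := Ideal.exists_le_maximal _ htop
      have hmZ : (⟨m, hm.isPrime⟩ : PrimeSpectrum R) ∈ Z := hJ ▸ (mem_zeroLocus _ _).2 (SetLike.coe_subset_coe.2 (le_sup_right.trans hmle))
      have hqZ : (⟨q, hq⟩ : PrimeSpectrum R) ∈ Z :=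
        hgen ((le_iff_specializes _ _).1 (show (⟨q, hq⟩ : PrimeSpectrum R) ≤ ⟨m, hm.isPrime⟩ from le_sup_left.trans hmle)) hmZ
      rw [hJ] at hqZ hpZ
      exact hpZ ((mem_zeroLocus _ _).2 (((mem_zeroLocus _ _).1 hqZ).trans hqp))
  refine ⟨I, Ideal.Pure.of_inf_eq_mul I fun K _ => le_antisymm ?_ Ideal.mul_le_inf, hZI⟩
  rintro x ⟨hxI, hxK⟩
  obtain ⟨j, hj, hx⟩ := id hxI
  have htop : (Ideal.span {x}).annihilator ⊔ I = ⊤ := by
    by_contra h
    obtain ⟨m, hm, hmle⟩ := Ideal.exists_le_maximal _ h
    have hmem : (⟨m, hm.isPrime⟩ : PrimeSpectrum R) ∈ zeroLocus (J : Set R) :=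
      hJ ▸ hZI ▸ (mem_zeroLocus _ _).2 (SetLike.coe_subset_coe.2 (le_sup_right.trans hmle))
    refine hm.ne_top ((Ideal.eq_top_iff_one _).2 ?_)
    have h1 : 1 - j ∈ m := hmle (Ideal.mem_sup_left (by
      rw [Submodule.mem_annihilator_span_singleton]
      simp [sub_mul, hx]))
    simpa using m.add_mem h1 ((mem_zeroLocus _ _).1 hmem hj)
  obtain ⟨a, ha, y, hy, hay⟩ := Submodule.mem_sup.1 ((Ideal.eq_top_iff_one _).1 htop)
  rw [Submodule.mem_annihilator_span_singleton, smul_eq_mul] at ha
  have : x = y * x := by linear_combination ha - x * hay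
  rw [this]
  exact Ideal.mul_mem_mul hy hxK

attribute [local instance] Module.free_of_flat_of_isLocalRing

theorem isOpen_rank_le (M : Type u) [AddCommGroup M] [Module R M] [Module.Finite R M] [Module.Flat R M] (n : ℕ) :
    IsOpen {p : PrimeSpectrum R | Module.rankAtStalk M p ≤ n} := by
  rw [isOpen_iff_forall_mem_open]
  intro p hp
  obtain ⟨f, a, hap, hφa⟩ : ∃ (f : (Fin (Module.rankAtStalk M p) →₀ R) →ₗ[R] M) (a : R), a ∉ p.asIdeal ∧
      Function.Surjective (LocalizedModule.map (Submonoid.powers a) f) := by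
    rcases subsingleton_or_nontrivial R with _ | _
    · exact absurd (Subsingleton.elim (1 : R) 0 ▸ p.asIdeal.zero_mem) (fun h => p.2.ne_top ((Ideal.eq_top_iff_one _).2 h))
    let Rₚ := Localization.AtPrime p.asIdeal
    let f₀ : (Fin (Module.rankAtStalk M p) →₀ R) →ₗ[R] Fin (Module.rankAtStalk M p) →₀ Rₚ :=
      Finsupp.mapRange.linearMap (Algebra.linearMap R Rₚ)
    let g := LocalizedModule.mkLinearMap p.asIdeal.primeCompl M
    obtain ⟨φ, -, -, hφps⟩ := Module.exists_localizedMap_surjective_of_surjective p.asIdeal.primeCompl f₀ g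
      ((Module.finBasis Rₚ (LocalizedModule.AtPrime p.asIdeal M)).repr.restrictScalars R).symm.surjective
    obtain ⟨a, hap, hφas⟩ := by
      refine Module.exists_localizedMap_away_surjective_of_localizedMap_atPrime_surjective p.asIdeal φ ?_
      simpa [LocalizedModule.coe_map_eq f₀ g]
    exact ⟨φ, a, hap, hφas⟩
  refine ⟨basicOpen a, fun q hq => ?_, isOpen_basicOpen, hap⟩
  rcases subsingleton_or_nontrivial R with _ | _
  · exact absurd (Subsingleton.elim (1 : R) 0 ▸ q.asIdeal.zero_mem) (fun h => q.2.ne_top ((Ideal.eq_top_iff_one _).2 h))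
  have hsurj : Function.Surjective (LocalizedModule.map q.asIdeal.primeCompl f) := by
    rw [LinearMap.localizedMap_surjective_iff_subsingleton_localized_coker, LocalizedModule.subsingleton_iff] at hφa ⊢
    intro m
    obtain ⟨r, ⟨k, rfl⟩, hrm⟩ := hφa m
    exact ⟨a ^ k, fun h => hq (q.2.mem_of_pow_mem k h), hrm⟩
  refine le_trans ?_ (show _ ≤ n from hp)
  refine le_trans (LinearMap.finrank_le_finrank_of_surjective (f := LocalizedModule.map q.asIdeal.primeCompl f) hsurj) ?_
  show Module.rankAtStalk (Fin (Module.rankAtStalk M p) →₀ R) q ≤ Module.rankAtStalk M p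
  rw [Module.rankAtStalk_eq_finrank_of_free]
  simp

theorem isLocallyConstant_rank (h : ∀ Z : Set (PrimeSpectrum R), IsClosed Z → StableUnderGeneralization Z → IsOpen Z)
    (M : Type u) [AddCommGroup M] [Module R M] [Module.Finite R M] [Module.Flat R M] :
    IsLocallyConstant (Module.rankAtStalk (R := R) M) := by
  have hopen : ∀ n : ℕ, IsOpen {p : PrimeSpectrum R | n ≤ Module.rankAtStalk M p} := by
    intro n
    cases n with
    | zero => simp
    | succ n =>
      refine h _ ?_ fun p q hqp hp => ?_
      · have : {p : PrimeSpectrum R | n + 1 ≤ Module.rankAtStalk M p} = {p | Module.rankAtStalk M p ≤ n}ᶜ := by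
          ext p
          simp only [Set.mem_ofPred_eq, Set.mem_compl_iff]
          omega
        rw [this]
        exact (isOpen_rank_le M n).isClosed_compl
      · simp only [Set.mem_ofPred_eq] at hp ⊢
        rwa [Module.rankAtStalk_eq_of_le_of_finite_of_flat (M := M) ((le_iff_specializes q p).2 hqp)]
  refine (IsLocallyConstant.iff_isOpen_fiber).2 fun n => ?_
  have : Module.rankAtStalk (R := R) M ⁻¹' {n} = {p | n ≤ Module.rankAtStalk M p} ∩ {p | Module.rankAtStalk M p ≤ n} := by
    ext p
    simp [le_antisymm_iff, and_comm]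
  rw [this]
  exact (hopen n).inter (isOpen_rank_le M n)

theorem projective_of_isLocallyConstant (M : Type u) [AddCommGroup M] [Module R M] [Module.Finite R M]
    [Module.Flat R M] (hM : IsLocallyConstant (Module.rankAtStalk (R := R) M)) : Module.Projective R M := by
  haveI : Module.FinitePresentation R M := by
    obtain ⟨N, π, hπ⟩ := Module.Finite.exists_fin' R M
    refine Module.finitePresentation_of_surjective π hπ ?_
    refine Submodule.of_localizationSpan (N := LinearMap.ker π) {b : R | ((LinearMap.ker π).localized (Submonoid.powers b)).FG} ?_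
      fun g => g.2
    by_contra htop
    obtain ⟨m, hm, hmle⟩ := Ideal.exists_le_maximal _ htop
    let p : PrimeSpectrum R := ⟨m, hm.isPrime⟩
    haveI : Nontrivial R := nontrivial_of_ne (0 : R) 1 fun h =>
      hm.ne_top ((Ideal.eq_top_iff_one _).2 (h ▸ m.zero_mem))
    set n := Module.rankAtStalk M p with hn
    obtain ⟨_, ⟨g, rfl⟩, hpg, hgsub⟩ := isTopologicalBasis_basic_opens.exists_subset_of_mem_open
      (show p ∈ Module.rankAtStalk (R := R) M ⁻¹' {n} from rfl) (hM.isOpen_fiber n)
    let Rₚ := Localization.AtPrime p.asIdeal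
    let f₀ : (Fin n →₀ R) →ₗ[R] Fin n →₀ Rₚ := Finsupp.mapRange.linearMap (Algebra.linearMap R Rₚ)
    let g₀ := LocalizedModule.mkLinearMap p.asIdeal.primeCompl M
    obtain ⟨φ, -, -, hφps⟩ := Module.exists_localizedMap_surjective_of_surjective p.asIdeal.primeCompl f₀ g₀
      ((Module.finBasis Rₚ (LocalizedModule.AtPrime p.asIdeal M)).repr.restrictScalars R).symm.surjective
    obtain ⟨a, hap, hφas⟩ := by
      refine Module.exists_localizedMap_away_surjective_of_localizedMap_atPrime_surjective p.asIdeal φ ?_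
      simpa [LocalizedModule.coe_map_eq f₀ g₀]
    let b := a * g
    have hbp : b ∉ m := fun hb => (hm.isPrime.mem_or_mem hb).elim hap hpg
    refine hbp (hmle (Ideal.subset_span ?_))
    show ((LinearMap.ker π).localized (Submonoid.powers b)).FG
    have hφb : Function.Surjective (LocalizedModule.map (Submonoid.powers b) φ) := by
      rw [LinearMap.localizedMap_surjective_iff_subsingleton_localized_coker, LocalizedModule.subsingleton_iff] at hφas ⊢
      intro x
      obtain ⟨r, ⟨k, rfl⟩, hrx⟩ := hφas x
      exact ⟨b ^ k, ⟨k, rfl⟩, by rw [show b ^ k = g ^ k * a ^ k by rw [← mul_pow, mul_comm], mul_smul, hrx, smul_zero]⟩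
    haveI : Module.Free (Localization.Away b) (LocalizedModule.Away b (Fin n →₀ R)) :=
      Module.free_of_isLocalizedModule (Rₛ := Localization.Away b) (Mₛ := LocalizedModule.Away b (Fin n →₀ R)) (Submonoid.powers b) (LocalizedModule.mkLinearMap (Submonoid.powers b) (Fin n →₀ R))
    let φb : LocalizedModule.Away b (Fin n →₀ R) →ₗ[Localization.Away b] LocalizedModule.Away b M :=
      LocalizedModule.map (Submonoid.powers b) φ
    haveI : Module.Free (Localization.Away b) (LocalizedModule.Away b M) :=
      Module.Free.of_equiv (LinearEquiv.ofBijective φb <| Module.bijective_of_surjective_of_rankAtStalk_eq hφb fun q _ => by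
        have hq : PrimeSpectrum.comap (algebraMap R (Localization.Away b)) ⟨q, inferInstance⟩ ∈ basicOpen g := by
          intro hg
          have hmem : algebraMap R (Localization.Away b) (a * g) ∈ q := by
            rw [map_mul]
            exact q.mul_mem_left _ hg
          exact Ideal.IsPrime.ne_top' (I := q) (Ideal.eq_top_of_isUnit_mem _ hmem (IsLocalization.Away.algebraMap_isUnit b))
        have hr := hgsub hq
        simp only [Set.mem_preimage, Set.mem_singleton_iff] at hr
        rw [Module.rankAtStalk_isBaseChange (LocalizedModule.isBaseChange (Submonoid.powers b) _),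
          Module.rankAtStalk_isBaseChange (LocalizedModule.isBaseChange (Submonoid.powers b) _), hr]
        simp [Module.rankAtStalk_eq_finrank_of_free])
    let πb : LocalizedModule.Away b (Fin N → R) →ₗ[Localization.Away b] LocalizedModule.Away b M :=
      LocalizedModule.map (Submonoid.powers b) π
    have hπb : Function.Surjective πb := LocalizedModule.map_surjective _ π hπ
    obtain ⟨σ, hσ⟩ := Module.projective_lifting_property πb LinearMap.id hπb
    haveI : Module.Finite (Localization.Away b) (LocalizedModule.Away b (Fin N → R)) := inferInstance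
    have hker : (LinearMap.ker π).localized (Submonoid.powers b) = LinearMap.range (LinearMap.id - σ ∘ₗ πb) := by
      rw [show (LinearMap.ker π).localized (Submonoid.powers b) = LinearMap.ker πb from
        LinearMap.localized'_ker_eq_ker_localizedMap _ _ _ (LocalizedModule.mkLinearMap _ M) π]
      refine le_antisymm (fun x hx => ⟨x, by rw [LinearMap.sub_apply, LinearMap.comp_apply, LinearMap.mem_ker.1 hx, map_zero, sub_zero, LinearMap.id_apply]⟩) ?_
      rintro _ ⟨x, rfl⟩
      rw [LinearMap.mem_ker, LinearMap.sub_apply, LinearMap.id_apply, LinearMap.comp_apply, map_sub,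
        ← LinearMap.comp_apply πb σ, hσ, LinearMap.id_apply, sub_self]
    rw [hker]
    rw [LinearMap.range_eq_map]
    exact Module.Finite.fg_top.map _
  exact Module.Flat.projective_of_finitePresentation

theorem isOpen_iff_projective :
    (∀ Z : Set (PrimeSpectrum R), IsClosed Z → StableUnderGeneralization Z → IsOpen Z) ↔
      ∀ (M : Type u) [AddCommGroup M] [Module R M], Module.Finite R M → Module.Flat R M →
        Module.Projective R M := by
  refine ⟨fun h M _ _ _ _ => projective_of_isLocallyConstant M (isLocallyConstant_rank h M), fun h Z hZ hgen => ?_⟩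
  obtain ⟨I, hI, rfl⟩ := exists_pure Z hZ hgen
  haveI := h (R ⧸ I) inferInstance hI
  haveI : Module.FinitePresentation R (R ⧸ I) := Module.finitePresentation_of_projective R (R ⧸ I)
  have hfg : I.FG := by
    have := Module.FinitePresentation.fg_ker (Submodule.mkQ I) (Submodule.mkQ_surjective I)
    rwa [Submodule.ker_mkQ] at this
  haveI := hI
  obtain ⟨e, he, hIe⟩ := (Ideal.isIdempotentElem_iff_of_fg _ hfg).1 (Ideal.isIdempotentElem_of_pure I)
  have : zeroLocus (I : Set R) = (basicOpen (1 - e) : Set (PrimeSpectrum R)) := by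
    subst hIe
    ext p
    rw [zeroLocus_span, mem_zeroLocus, Set.singleton_subset_iff, SetLike.mem_coe, SetLike.mem_coe, mem_basicOpen]
    refine ⟨fun h1 h2 => p.2.ne_top ((Ideal.eq_top_iff_one _).2 (by simpa using p.asIdeal.add_mem h1 h2)), fun h1 => ?_⟩
    exact (p.2.mem_or_mem (show (1 - e) * e ∈ p.asIdeal by rw [he.one_sub_mul_self]; exact p.asIdeal.zero_mem)).resolve_left h1
  rw [this]
  exact isOpen_basicOpen

end Groth.Agent.CAlgPureIdeal
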